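import Cfsg.Prelude
import Cfsg.Agent.Lib.ZStar.Main
import Cfsg.Agent.Lib.ZStar.Homocyclic
import Cfsg.Agent.Lib.PCore.Basic

/-!
# Simple groups of 2-rank at most two have no isolated involutions, no subgroup of index 2 and no
homocyclic Sylow 2-subgroup
-/

set_option autoImplicit false
set_option linter.style.haveILetI false

namespace Cfsg.Agent.RankTwoSimple

open Cfsg Subgroup

universe u

variable {G : Type u} [Group G] [Finite G] [IsSimpleGroup G]

theorem oddCore_eq_bot (heven : 2 ∣ Nat.card G) : oddCore G = ⊥ := by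
  rcases (IsSimpleGroup.eq_bot_or_eq_top_of_normal (oddCore G) inferInstance) with h | h
  · exact h
  · have := PCore.odd_card_oddCore (G := G)
    rw [h, Subgroup.card_top] at this
    exact absurd heven this.not_two_dvd_nat

theorem center_eq_bot (hG : ¬ IsMulCommutative G) : center G = ⊥ := by
  rcases (IsSimpleGroup.eq_bot_or_eq_top_of_normal (center G) inferInstance) with h | h
  · exact h
  · exact absurd ⟨⟨fun a b => (mem_center_iff.mp (h ▸ mem_top b) a)⟩⟩ hG

theorem not_isolated (hG : ¬ IsMulCommutative G) (z : G) : ¬ IsIsolatedInvolution z := by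
  intro hz
  have heven : 2 ∣ Nat.card G := hz.1 ▸ orderOf_dvd_natCard z
  have hmem := ZStar.mem_center_of_oddCore_eq_bot (ZStar.inZStar hz) (oddCore_eq_bot heven)
  rw [center_eq_bot hG, mem_bot] at hmem
  have := hz.1
  simp [hmem] at this

theorem index_ne_two (hG : ¬ IsMulCommutative G) (H : Subgroup G) : H.index ≠ 2 := by
  intro h
  haveI := Subgroup.normal_of_index_eq_two h
  rcases (IsSimpleGroup.eq_bot_or_eq_top_of_normal H inferInstance) with e | e
  · rw [e, index_bot] at h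
    haveI : Fact (Nat.Prime 2) := ⟨Nat.prime_two⟩
    haveI := isCyclic_of_prime_card h
    exact hG ⟨⟨fun a b => IsCyclic.commGroup.mul_comm a b⟩⟩
  · rw [e, index_top] at h
    omega

theorem not_rank_one (hG : ¬ IsMulCommutative G) (heven : 2 ∣ Nat.card G) : ¬ PRankLE 2 1 G := by
  intro hr
  haveI : Fact (Nat.Prime 2) := ⟨Nat.prime_two⟩
  obtain ⟨z, hz⟩ := exists_prime_orderOf_dvd_card' (G := G) 2 heven
  refine not_isolated hG z (ZStar.isolated_of_no_kleinFour (fun E hE => ?_) hz)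
  haveI := hE
  have h := hr E ⟨⟨mul_comm_of_exponent_two hE.exponent_two⟩⟩ fun a ha => by
    have h3 := Monoid.pow_exponent_eq_one (⟨a, ha⟩ : E)
    rw [hE.exponent_two] at h3
    exact congrArg Subtype.val h3
  rw [hE.card_four] at h
  omega

theorem not_homocyclic (hG : ¬ IsMulCommutative G) (heven : 2 ∣ Nat.card G) (S : Sylow 2 G) {n : ℕ}
    (hn : 2 ≤ n) : IsEmpty ((S : Subgroup G) ≃* Multiplicative (ZMod (2 ^ n) × ZMod (2 ^ n))) := by
  refine ⟨fun e => ?_⟩
  haveI : Fact (Nat.Prime 2) := ⟨Nat.prime_two⟩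
  haveI := ZStar.normal_homocyclic S n hn e (oddCore_eq_bot heven)
  rcases (IsSimpleGroup.eq_bot_or_eq_top_of_normal (S : Subgroup G) inferInstance) with h | h
  · have := S.ne_bot_of_dvd_card heven
    exact this h
  · exact hG ⟨⟨fun a b => congrArg Subtype.val
      (e.injective (show e ⟨a * b, h ▸ mem_top _⟩ = e ⟨b * a, h ▸ mem_top _⟩ from
        (map_mul e ⟨a, h ▸ mem_top a⟩ ⟨b, h ▸ mem_top b⟩).trans
          ((mul_comm _ _).trans (map_mul e ⟨b, h ▸ mem_top b⟩ ⟨a, h ▸ mem_top a⟩).symm)))⟩⟩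

/-- The step from the rank two fusion classification to simple groups. -/
theorem reduce (hG : ¬ IsMulCommutative G) (heven : 2 ∣ Nat.card G) (S : Sylow 2 G) {A B C D : Prop}
    (h : ¬ PRankLE 2 1 G → (∀ H : Subgroup G, H.index ≠ 2) → (∀ z : G, ¬ IsIsolatedInvolution z) →
      (A ∨ B ∨ C ∨
        (∃ n : ℕ, 2 ≤ n ∧ Nonempty ((S : Subgroup G) ≃* Multiplicative (ZMod (2 ^ n) × ZMod (2 ^ n)))) ∨ D)) :
    A ∨ B ∨ C ∨ D := by
  rcases h (not_rank_one hG heven) (index_ne_two hG) (not_isolated hG) with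
    h | h | h | ⟨n, hn, ⟨e⟩⟩ | h
  · exact Or.inl h
  · exact Or.inr (Or.inl h)
  · exact Or.inr (Or.inr (Or.inl h))
  · exact ((not_homocyclic hG heven S hn).false e).elim
  · exact Or.inr (Or.inr (Or.inr h))

end Cfsg.Agent.RankTwoSimple
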